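import Cfsg.Agent.H715.Fpr.Row4_m3
import Cfsg.Agent.H961.SepFi23
import Cfsg.Agent.H839.SeventeenMain_m3
import Cfsg.Agent.Prune
set_option linter.all false
prune_inst 0x7f00000000000000000000000000000000000000000000000000000000000000000000000000000000000000000000000000000000000000000000000000000000000000000000000000000000000000003fffffffffffffffffffffffffffbeffbdffffffff
open scoped Cfsg.Agent.FastGrp

/-!
# Fixed point ratios: `Fi23` (helper433)
-/

set_option autoImplicit false

namespace Cfsg.Agent.H433.Fpr.Fi23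

open Subgroup Cfsg.Agent.H409 Cfsg.Agent.OrdDiv Cfsg.Agent.H940.Eng Cfsg.Agent.H940.Eng.D Cfsg.Agent.H715.Fpr Cfsg.Spor
open Cfsg.Agent.H961.SepFi23 (data11 data13 data17 data23 card fin)

abbrev G : Type := Cfsg.Spor.Fi23

theorem n7 {R : Subgroup G} (hR : Nat.card R = 7) : Nat.card (normalizer (R : Set G)) = 5040 := by
  obtain ⟨F, h1, -, -, h4, h5, h6, ⟨h7⟩⟩ := H839.Fi23.seven_main R hR
  rw [← h6]
  have h8 : Nat.card (Subgroup.closure (H838.Fi23.DD ∩ (centralizer (R : Set G) : Set G))) = 120 := by
    rw [Nat.card_congr h7.toEquiv, Nat.card_perm, Nat.card_fin]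
    decide
  rw [H839.Count.card_sup_of_comm h5 h4, h1, h8]

def loc : List LD := [⟨23, 23, [(11, 1), (23, 1)]⟩, ⟨17, 17, [(2, 4), (17, 1)]⟩, ⟨13, 78, [(2, 2), (3, 2), (13, 1)]⟩,
  ⟨11, 88, [(2, 3), (5, 1), (11, 1)]⟩]

theorem ctx (B : Base) : Ctx G l_fi23 n_fi23 o_fi23 loc :=
  let c := H961.SepFi23.ctx B
  ⟨c.fin, c.simple, c.card, c.val, c.nodup, c.ords, fun ld hld => c.loc ld (by
    simp only [loc, List.mem_cons, List.not_mem_nil, or_false] at hld
    simp only [H961.SepFi23.loc, List.mem_cons, List.not_mem_nil, or_false]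
    tauto)⟩

theorem row2 (B : Base) : FprRow 3 1 2 G := by
  have := fin
  exact row_of_act3 (ctx B) (q := 17) (N := 272) (by decide +kernel) (by decide +kernel) (by decide +kernel)
    (acts_of card (by decide +kernel) (by decide +kernel) (by decide +kernel) (fun _ hR => data17 hR) 1 (by decide +kernel))
    (fun _ hR => (data17 hR).2) 55 0 lb_zero [] 40 (by decide +kernel) (by decide +kernel)

theorem row3 (B : Base) : FprRow 4 1 3 G := by
  have := fin
  exact row_of_act3 (ctx B) (q := 13) (N := 468) (by decide +kernel) (by decide +kernel) (by decide +kernel)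
    (acts_of card (by decide +kernel) (by decide +kernel) (by decide +kernel) (fun _ hR => data13 hR) 2 (by decide +kernel))
    (fun _ hR => (data13 hR).2) 192 0 lb_zero [] 40 (by decide +kernel) (by decide +kernel)

theorem acts5 : Acts 5 11 G := by
  have := fin
  obtain ⟨R, hR⟩ := exists_card_eq (G := G) (r := 11) (by decide +kernel) (by rw [card]; decide)
  obtain ⟨h1, h2⟩ := data11 hR
  exact acts_of_card (by norm_num) (by norm_num) hR 1 (by rw [h2]; norm_num) (fun h3 => absurd (h3.trans h1) (by norm_num))

theorem row5 (B : Base) : FprRow 6 1 5 G :=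
  row_of_act3 (ctx B) (q := 11) (N := 440) (by decide +kernel) (by decide +kernel) (by decide +kernel)
    acts5 (fun _ hR => (data11 hR).2) 480 0 lb_zero [] 40 (by decide +kernel) (by exact Cfsg.Agent.H715.Fpr.scheck_fast (by decide +kernel))

theorem row7 (B : Base) : FprRow 8 1 7 G :=
  row_of_norm3 (ctx B) (by decide +kernel) (by decide +kernel) (by decide +kernel) (fun _ hR => n7 hR)
    5760 0 lb_zero [1173] 40 (by decide +kernel) (by exact Cfsg.Agent.H715.Fpr.scheck_fast (by decide +kernel))

theorem row11 (B : Base) : FprRow 12 1 11 G :=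
  row_of_norm3 (ctx B) (by decide +kernel) (by decide +kernel) (by decide +kernel) (fun _ hR => (data11 hR).2)
    480 0 lb_zero [] 40 (by decide +kernel) (by exact Cfsg.Agent.H715.Fpr.scheck_fast (by decide +kernel))

theorem row13 (B : Base) : FprRow 14 1 13 G :=
  row_of_norm3 (ctx B) (by decide +kernel) (by decide +kernel) (by decide +kernel) (fun _ hR => (data13 hR).2)
    504 0 lb_zero [] 40 (by decide +kernel) (by exact Cfsg.Agent.H715.Fpr.scheck_fast (by decide +kernel))

theorem row17 (B : Base) : FprRow 18 1 17 G :=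
  row_of_norm3 (ctx B) (by decide +kernel) (by decide +kernel) (by decide +kernel) (fun _ hR => (data17 hR).2)
    288 0 lb_zero [] 40 (by decide +kernel) (by exact Cfsg.Agent.H715.Fpr.scheck_fast (by decide +kernel))

theorem row23 (B : Base) : FprRow 24 1 23 G :=
  row_of_norm3 (ctx B) (by decide +kernel) (by decide +kernel) (by decide +kernel) (fun _ hR => (data23 hR).2)
    264 0 lb_zero [] 40 (by decide +kernel) (by decide +kernel)

/-- **the rows of `Fi23`** -/
theorem row (B : Base) {p : ℕ} (hp : p.Prime) (hd : p ∣ Nat.card G) : FprRow (p + 1) 1 p G := by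
  have h1 := valid_mem v_fi23 hp (by rw [← card]; exact hd)
  simp only [l_fi23, List.map_cons, List.map_nil, List.mem_cons, List.not_mem_nil, or_false] at h1
  rcases h1 with rfl | rfl | rfl | rfl | rfl | rfl | rfl | rfl
  · exact row2 B
  · exact row3 B
  · exact row5 B
  · exact row7 B
  · exact row11 B
  · exact row13 B
  · exact row17 B
  · exact row23 B

universe u in
/-- **the rows of `Fi23`, all primes** -/
theorem rowIso (B : Base) {S : Type u} [Group S] (h : Cfsg.Spor.IsoFi23 S) {p : ℕ} (hp : p.Prime)
    (hd : p ∣ Nat.card S) : FprRow (p + 1) 1 p S := by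
  obtain ⟨e⟩ := h
  have := fin
  exact (row B hp (by rw [← Nat.card_congr e.toEquiv]; exact hd)).of_mulEquiv hp e.symm

end Cfsg.Agent.H433.Fpr.Fi23

private theorem dce_68a583b70999 : _root_.True := by
  try have : _root_.True := by simp only [_root_.Cfsg.Agent.H940.Eng.D.l_fi23.eq_1]
  try have : _root_.True := by simp only [_root_.Cfsg.Agent.H433.Fpr.Fi23.loc.eq_1]
  exact _root_.True.intro
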